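import Mathlib
import Groth.Agent.ComodLib.LinRed
import Groth.Agent.HopfFFLib.Injective
import Groth.Agent.HopfFFLib.Stab.Observable
import Groth.Agent.HopfFFLib.Normal.Correspondence
import Groth.Agent.HopfFFLib.Consequences

/-! # Linear reductivity in short exact sequences of affine groups -/

set_option autoImplicit false

noncomputable section

open TensorProduct HopfRep ComodLib

namespace LinRedSeqLib

universe u

variable {k : Type u} [Field k] {Q G K : Type u} [CommRing Q] [HopfAlgebra k Q]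
  [CommRing G] [HopfAlgebra k G] [CommRing K] [HopfAlgebra k K]

local notation "Δ" => CoalgebraStruct.comul (R := k)

theorem comul_map {X Y : Type u} [CommRing X] [HopfAlgebra k X] [CommRing Y] [HopfAlgebra k Y]
    (f : X →ₐc[k] Y) (x : X) :
    Δ (f x) = TensorProduct.map (f : X →ₐ[k] Y).toLinearMap (f : X →ₐ[k] Y).toLinearMap (Δ x) :=
  (CoalgHomClass.map_comp_comul_apply f x).symm

theorem quotient_linearlyReductive (φ : Q →ₐc[k] G) (hφ : Function.Injective φ)
    (h : IsLinearlyReductive k G) : IsLinearlyReductive k Q := by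
  obtain ⟨α, hα, h1⟩ := exists_invariant_of_isLinearlyReductive h
  let l : Q →ₗ[k] G := (φ : Q →ₐ[k] G).toLinearMap
  refine isLinearlyReductive_of_invariant (α := α ∘ₗ l) (fun x => hφ ?_) (by simp [l, h1])
  have := hα (φ x)
  rw [comul_map φ] at this
  show l (sliceL (α ∘ₗ l) (Δ x)) = φ ((α ∘ₗ l) x • 1)
  rw [map_smul, map_one, ← sliceL_rTensor, ← sliceL_lTensor,
    ← LinearMap.comp_apply (LinearMap.lTensor G l), LinearMap.lTensor_comp_rTensor]
  exact this

/-- The kernel of `Q → k` pushed into `G` is killed by `G → K`. -/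
theorem psi_phi (φ : Q →ₐc[k] G) (ψ : G →ₐc[k] K)
    (hker : RingHom.ker (ψ : G →ₐ[k] K) =
      Ideal.map (φ : Q →ₐ[k] G) (RingHom.ker (Bialgebra.counitAlgHom k Q))) (q : Q) :
    ψ (φ q) = algebraMap k K (CoalgebraStruct.counit (R := k) q) := by
  have hmem : φ (q - algebraMap k Q (CoalgebraStruct.counit (R := k) q)) ∈
      RingHom.ker (ψ : G →ₐ[k] K) := by
    rw [hker]
    refine Ideal.mem_map_of_mem _ ?_
    show Bialgebra.counitAlgHom k Q _ = 0
    simp
  have h0 : (ψ : G →ₐ[k] K) ((φ : Q →ₐ[k] G) (q - algebraMap k Q (CoalgebraStruct.counit (R := k) q))) = 0 :=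
    hmem
  rw [map_sub, map_sub, AlgHom.commutes, AlgHom.commutes, sub_eq_zero] at h0
  exact h0

theorem psi_phi_left (φ : Q →ₐc[k] G) (ψ : G →ₐc[k] K)
    (hker : RingHom.ker (ψ : G →ₐ[k] K) =
      Ideal.map (φ : Q →ₐ[k] G) (RingHom.ker (Bialgebra.counitAlgHom k Q))) (q : Q) :
    LinearMap.rTensor G (ψ : G →ₐ[k] K).toLinearMap (Δ (φ q)) = (1 : K) ⊗ₜ[k] φ q := by
  rw [comul_map φ]
  have key : ∀ z : Q ⊗[k] Q, LinearMap.rTensor G (ψ : G →ₐ[k] K).toLinearMap
      (TensorProduct.map (φ : Q →ₐ[k] G).toLinearMap (φ : Q →ₐ[k] G).toLinearMap z) =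
      (1 : K) ⊗ₜ[k] φ (TensorProduct.lid k Q
        (LinearMap.rTensor Q (CoalgebraStruct.counit (R := k)) z)) := by
    intro z
    induction z with
    | zero => simp
    | add a b ha hb => simp only [map_add, ha, hb, tmul_add]
    | tmul a b =>
      simp only [TensorProduct.map_tmul, LinearMap.rTensor_tmul, TensorProduct.lid_tmul,
        AlgHom.toLinearMap_apply, map_smul]
      show ψ (φ a) ⊗ₜ[k] φ b = _
      rw [psi_phi φ ψ hker, Algebra.algebraMap_eq_smul_one, TensorProduct.smul_tmul]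
  rw [key, Coalgebra.rTensor_counit_comul, TensorProduct.lid_tmul, one_smul]

theorem mem_range_of_left_coinvariant (φ : Q →ₐc[k] G) (ψ : G →ₐc[k] K)
    (hψ : Function.Surjective ψ)
    (hker : RingHom.ker (ψ : G →ₐ[k] K) =
      Ideal.map (φ : Q →ₐ[k] G) (RingHom.ker (Bialgebra.counitAlgHom k Q))) (x : G)
    (hx : LinearMap.rTensor G (ψ : G →ₐ[k] K).toLinearMap (Δ x) = (1 : K) ⊗ₜ[k] x) :
    x ∈ (φ : Q →ₐ[k] G).range := by
  have hB := Groth.Agent.HopfFF.isSubHopf_range φ
  let I : Ideal G := RingHom.ker (ψ : G →+* K)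
  haveI : I.IsHopfIdeal k := Groth.Agent.HopfFF.isHopfIdeal_ker ψ hψ
  have hI : I ≤ SGA3.augIdealSpan k G (φ : Q →ₐ[k] G).range := by
    show RingHom.ker (ψ : G →ₐ[k] K) ≤ _
    rw [hker, Ideal.map_le_iff_le_comap]
    intro q hq
    refine Ideal.subset_span ⟨⟨q, rfl⟩, ?_⟩
    exact (CoalgHomClass.counit_comp_apply φ q).trans hq
  let S := HopfAlgebra.antipodeAlgHom k G
  have hSx : S x ∈ (φ : Q →ₐ[k] G).range := by
    refine Groth.Agent.HopfFF.coinv_le_of_le_augSpan hB hI ?_
    rw [← SetLike.mem_coe, Groth.Agent.HopfFF.coinv_eq_set, Set.mem_ofPred_eq]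
    have hex : Function.Exact (LinearMap.lTensor G (I.restrictScalars k).subtype)
        (LinearMap.lTensor G (ψ : G →ₐ[k] K).toLinearMap) := by
      refine lTensor_exact G (fun y => ?_) hψ
      exact ⟨fun h => ⟨⟨y, h⟩, rfl⟩, fun ⟨z, hz⟩ => hz ▸ z.2⟩
    refine (hex _).1 ?_
    rw [map_sub, sub_eq_zero, LinearMap.lTensor_tmul, AlgHom.toLinearMap_apply, map_one,
      Groth.Agent.HopfFF.comul_antipode]
    have key : ∀ z : G ⊗[k] G, LinearMap.lTensor G (ψ : G →ₐ[k] K).toLinearMap
        (TensorProduct.comm k G G (Algebra.TensorProduct.map S S z)) =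
        TensorProduct.comm k K G (TensorProduct.map
          (HopfAlgebraStruct.antipode (R := k) (A := K)) S.toLinearMap
          (LinearMap.rTensor G (ψ : G →ₐ[k] K).toLinearMap z)) := by
      intro z
      induction z with
      | zero => simp
      | add a b ha hb => simp only [map_add, ha, hb]
      | tmul a b =>
        simp only [Algebra.TensorProduct.map_tmul, TensorProduct.comm_tmul, LinearMap.lTensor_tmul,
          LinearMap.rTensor_tmul, TensorProduct.map_tmul, AlgHom.toLinearMap_apply]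
        exact congrArg (S b ⊗ₜ[k] ·) (Groth.Agent.HopfFF.map_antipode ψ a)
    rw [key, hx]
    simp
  obtain ⟨q, hq⟩ := hSx
  refine ⟨HopfAlgebraStruct.antipode (R := k) q, ?_⟩
  have := Groth.Agent.HopfFF.antipode_antipode (k := k) x
  rw [← this]
  refine (Groth.Agent.HopfFF.map_antipode φ q).trans ?_
  exact congrArg _ hq

theorem middle_linearlyReductive (φ : Q →ₐc[k] G) (hφ : Function.Injective φ)
    (ψ : G →ₐc[k] K) (hψ : Function.Surjective ψ)
    (hker : RingHom.ker (ψ : G →ₐ[k] K) =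
      Ideal.map (φ : Q →ₐ[k] G) (RingHom.ker (Bialgebra.counitAlgHom k Q)))
    (hK : IsLinearlyReductive k K) (hQ : IsLinearlyReductive k Q) :
    IsLinearlyReductive k G := by
  obtain ⟨β, hβ, hβ1⟩ := exists_invariant_of_isLinearlyReductive hK
  obtain ⟨γ, hγ, hγ1⟩ := exists_invariant_of_isLinearlyReductive hQ
  let lφ : Q →ₗ[k] G := (φ : Q →ₐ[k] G).toLinearMap
  let lψ : G →ₗ[k] K := (ψ : G →ₐ[k] K).toLinearMap
  obtain ⟨inv, hinv⟩ := LinearMap.exists_leftInverse_of_injective lφ
    (LinearMap.ker_eq_bot.2 hφ)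
  have hinv' : ∀ q, inv (φ q) = q := fun q => LinearMap.congr_fun hinv q
  let r : G →ₗ[k] G := sliceL (β ∘ₗ lψ) ∘ₗ Δ
  have hr : ∀ x, Δ (r x) = LinearMap.rTensor G r (Δ x) := by
    intro x
    show Δ (sliceL (β ∘ₗ lψ) (Δ x)) = _
    rw [← sliceL_lTensor, ← Coalgebra.coassoc_apply]
    generalize Δ x = z
    induction z with
    | zero => simp
    | add a b ha hb => simp only [map_add, ha, hb]
    | tmul a b =>
      simp only [LinearMap.rTensor_tmul, r, LinearMap.comp_apply]
      generalize Δ a = y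
      induction y with
      | zero => simp
      | add c d hc hd => simp only [add_tmul, map_add, hc, hd]
      | tmul c d => simp [TensorProduct.smul_tmul']
  have hleft : ∀ x, LinearMap.rTensor G lψ (Δ (r x)) = (1 : K) ⊗ₜ[k] r x := by
    intro x
    rw [hr, ← LinearMap.rTensor_comp_apply]
    have e : lψ ∘ₗ r = (LinearMap.toSpanSingleton k K 1) ∘ₗ (β ∘ₗ lψ) := by
      refine LinearMap.ext fun y => ?_
      simp only [LinearMap.comp_apply, LinearMap.toSpanSingleton_apply, r]
      rw [← sliceL_lTensor, ← sliceL_rTensor, ← LinearMap.comp_apply (LinearMap.rTensor _ lψ),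
        LinearMap.rTensor_comp_lTensor, ← comul_map ψ]
      exact hβ _
    rw [e, LinearMap.rTensor_comp_apply]
    show _ = (1 : K) ⊗ₜ[k] sliceL (β ∘ₗ lψ) (Δ x)
    generalize Δ x = z
    induction z with
    | zero => simp
    | add a b ha hb => simp only [map_add, ha, hb, tmul_add]
    | tmul a b => simp [TensorProduct.smul_tmul]
  refine isLinearlyReductive_of_invariant (α := γ ∘ₗ inv ∘ₗ r) (fun x => ?_) ?_
  · obtain ⟨q, hq⟩ := mem_range_of_left_coinvariant φ ψ hψ hker (r x) (hleft x)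
    have hq' : r x = φ q := hq.symm
    rw [← LinearMap.comp_assoc, ← sliceL_rTensor, ← hr, hq', comul_map φ,
      ← LinearMap.lTensor_comp_rTensor, LinearMap.comp_apply, sliceL_lTensor, sliceL_rTensor]
    have hγ' : γ ∘ₗ inv ∘ₗ lφ = γ := by rw [hinv, LinearMap.comp_id]
    show lφ (sliceL ((γ ∘ₗ inv) ∘ₗ lφ) (Δ q)) = _
    rw [LinearMap.comp_assoc, hγ', hγ, map_smul]
    simp only [LinearMap.comp_apply, hq', hinv']
    simp [lφ]
  · have hr1 : r 1 = 1 := by simp [r, lψ, Bialgebra.comul_one, Algebra.TensorProduct.one_def, hβ1]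
    simp only [LinearMap.comp_apply, hr1]
    rw [← map_one φ, hinv', hγ1]

open Groth.Agent.HopfFF in
theorem exists_good_superset {B : Subalgebra k G} (hB : IsSubHopf k G B) (S : Finset G) :
    ∃ M : Submodule ↥B G, Good (k := k) M ∧ (1 : G) ∈ M ∧ ∀ x ∈ S, x ∈ M := by
  classical
  induction S using Finset.induction with
  | empty =>
    obtain ⟨M, hM, h1⟩ := exists_good hB (1 : G)
    exact ⟨M, hM, h1, by simp⟩
  | insert a s ha ih =>
    obtain ⟨M, hM, h1, hs⟩ := ih
    obtain ⟨N, hN, haN⟩ := exists_good hB a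
    refine ⟨M ⊔ N, hM.sup hN, Submodule.mem_sup_left h1, fun x hx => ?_⟩
    rcases Finset.mem_insert.1 hx with rfl | hx
    · exact Submodule.mem_sup_right haN
    · exact Submodule.mem_sup_left (hs x hx)

open Groth.Agent.HopfFF in
/-- A `B`-linear retraction to `B` on a finite list of elements. -/
theorem exists_retraction {B : Subalgebra k G} (hB : IsSubHopf k G B) [IsNoetherianRing ↥B]
    (S : Finset G) :
    ∃ (M : Submodule ↥B G) (p : G →ₗ[k] G), (1 : G) ∈ M ∧ (∀ x ∈ S, x ∈ M) ∧ p 1 = 1 ∧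
      (∀ x, p x ∈ B) ∧ ∀ (b : ↥B) (x : G), x ∈ M → p ((b : G) * x) = (b : G) * p x := by
  obtain ⟨M, hM, h1, hS⟩ := exists_good_superset hB S
  haveI : Module.Finite ↥B ↥M := Module.Finite.iff_fg.2 hM.fg
  haveI := hM.flat hB
  haveI : Module.FinitePresentation ↥B ↥M := Module.finitePresentation_of_finite _ _
  haveI : Module.Projective ↥B ↥M := Module.Flat.projective_of_finitePresentation
  let one : ↥M := ⟨1, h1⟩
  let J : Ideal ↥B := LinearMap.range (Module.Dual.eval ↥B ↥M one)
  have hJ : J = ⊤ := by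
    by_contra hne
    obtain ⟨P, hP, hle⟩ := Ideal.exists_le_maximal J hne
    refine hM.one_notMem hB h1 P hP ?_
    obtain ⟨n, π, ι, -, -, hπι⟩ := Module.Finite.exists_comp_eq_id_of_projective ↥B ↥M
    have : one = π (ι one) := (LinearMap.congr_fun hπι one).symm
    rw [show (⟨1, h1⟩ : ↥M) = π (ι one) from this, pi_eq_sum_univ' (ι one), map_sum]
    refine Submodule.sum_mem _ fun i _ => ?_
    rw [map_smul]
    refine Submodule.smul_mem_smul (hle ?_) Submodule.mem_top
    exact ⟨LinearMap.proj i ∘ₗ ι, rfl⟩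
  obtain ⟨l, hl⟩ : (1 : ↥B) ∈ J := hJ ▸ Submodule.mem_top
  let l' : ↥(M.restrictScalars k) →ₗ[k] ↥(Subalgebra.toSubmodule B) :=
    { toFun := fun x => ⟨((l ⟨(x : G), x.2⟩ : ↥B) : G), (l ⟨(x : G), x.2⟩).2⟩
      map_add' := fun x y => Subtype.ext (congrArg Subtype.val (map_add l ⟨(x : G), x.2⟩ ⟨(y : G), y.2⟩))
      map_smul' := fun c x => by
        refine Subtype.ext ?_
        have : (⟨((c • x : ↥(M.restrictScalars k)) : G), (c • x).2⟩ : ↥M) =
            (algebraMap k ↥B c) • (⟨(x : G), x.2⟩ : ↥M) :=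
          Subtype.ext (Algebra.smul_def c (x : G))
        show ((l _ : ↥B) : G) = c • ((l _ : ↥B) : G)
        rw [this, map_smul]
        simp [Algebra.smul_def] }
  obtain ⟨e, he⟩ := LinearMap.exists_extend l'
  refine ⟨M, (Subalgebra.toSubmodule B).subtype ∘ₗ e, h1, hS, ?_, fun x => (e x).2, fun b x hx => ?_⟩
  · show ((e 1 : ↥(Subalgebra.toSubmodule B)) : G) = 1
    rw [show e 1 = l' ⟨1, h1⟩ from LinearMap.congr_fun he ⟨1, h1⟩]
    show ((l one : ↥B) : G) = 1
    exact congrArg Subtype.val hl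
  · have hbx : (b : G) * x ∈ M := M.smul_mem b hx
    show ((e _ : ↥(Subalgebra.toSubmodule B)) : G) = (b : G) * ((e x : ↥(Subalgebra.toSubmodule B)) : G)
    rw [show e ((b : G) * x) = l' ⟨(b : G) * x, hbx⟩ from LinearMap.congr_fun he ⟨_, hbx⟩,
      show e x = l' ⟨x, hx⟩ from LinearMap.congr_fun he ⟨x, hx⟩]
    show ((l (b • ⟨x, hx⟩) : ↥B) : G) = (b : G) * ((l ⟨x, hx⟩ : ↥B) : G)
    rw [map_smul]
    rfl

open Groth.Agent.HopfFF in
/-- An invariant functional up to a finite set of elements of the kernel of `G → K`. -/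
theorem exists_partial_invariant [Algebra.FiniteType k Q] (φ : Q →ₐc[k] G)
    (ψ : G →ₐc[k] K)
    (hker : RingHom.ker (ψ : G →ₐ[k] K) =
      Ideal.map (φ : Q →ₐ[k] G) (RingHom.ker (Bialgebra.counitAlgHom k Q)))
    (hG : IsLinearlyReductive k G) (D : Finset G) (hD : ∀ d ∈ D, ψ d = 0) :
    ∃ L : G →ₗ[k] k, L 1 = 1 ∧ (∀ d ∈ D, L d = 0) ∧
      ∀ y, slice L (LinearMap.rTensor G (ψ : G →ₐ[k] K).toLinearMap (Δ y)) = L y • (1 : K) := by
  classical
  obtain ⟨α, hα, h1⟩ := exists_invariant_of_isLinearlyReductive hG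
  let α' : G →ₗ[k] k := α ∘ₗ HopfAlgebraStruct.antipode (R := k)
  have hrep : ∀ d : ↥D, ∃ (n : ℕ) (a : Fin n → G) (b : Fin n → Q),
      (∀ i, CoalgebraStruct.counit (R := k) (b i) = 0) ∧ (d : G) = ∑ i, a i * φ (b i) := by
    intro d
    have hd : (d : G) ∈ RingHom.ker (ψ : G →ₐ[k] K) := hD _ d.2
    rw [hker, Ideal.map] at hd
    obtain ⟨n, f, g, hfg⟩ := Submodule.mem_span_set'.1 hd
    choose b hb hbg using fun i => (g i).2
    refine ⟨n, f, b, hb, hfg.symm.trans ?_⟩
    refine Finset.sum_congr rfl fun i _ => ?_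
    rw [smul_eq_mul, ← hbg i]
    rfl
  choose n a b hb hab using hrep
  choose T hT using fun (d : ↥D) (i : Fin (n d)) =>
    TensorProduct.exists_finset (Δ (a d i))
  let Sleg : Finset G := Finset.univ.biUnion fun d : ↥D => Finset.univ.biUnion fun i =>
    (T d i).image fun p => HopfAlgebraStruct.antipode (R := k) p.2
  let B := (φ : Q →ₐ[k] G).range
  have hB : IsSubHopf k G B := isSubHopf_range φ
  haveI : IsNoetherianRing Q := Algebra.FiniteType.isNoetherianRing k Q
  haveI : IsNoetherianRing ↥B := isNoetherianRing_of_surjective Q ↥B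
    ((φ : Q →ₐ[k] G).rangeRestrict : Q →+* ↥B) (φ : Q →ₐ[k] G).rangeRestrict_surjective
  obtain ⟨M, p, hM1, hMS, hp1, hpB, hpl⟩ := exists_retraction hB Sleg
  let E : G →ₗ[k] G := p ∘ₗ HopfAlgebraStruct.antipode (R := k)
  let Tf : G →ₗ[k] G := LinearMap.mul' k G ∘ₗ LinearMap.lTensor G E ∘ₗ Δ
  have hT1 : Tf 1 = 1 := by
    simp [Tf, E, Bialgebra.comul_one, Algebra.TensorProduct.one_def, hp1]
  have hcomul : ∀ (y : G), LinearMap.rTensor G (ψ : G →ₐ[k] K).toLinearMap (Δ (Tf y)) =
      LinearMap.lTensor K Tf (LinearMap.rTensor G (ψ : G →ₐ[k] K).toLinearMap (Δ y)) := by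
    intro y
    let m := Algebra.TensorProduct.map (ψ : G →ₐ[k] K) (AlgHom.id k G)
    have hm : ∀ z : G ⊗[k] G, LinearMap.rTensor G (ψ : G →ₐ[k] K).toLinearMap z = m z := by
      intro z
      induction z with
      | zero => simp
      | add a b ha hb => simp only [map_add, ha, hb]
      | tmul a b => simp [m]
    have step : ∀ z : G ⊗[k] G,
        LinearMap.rTensor G (ψ : G →ₐ[k] K).toLinearMap
          (Δ (LinearMap.mul' k G (LinearMap.lTensor G E z))) =
        LinearMap.lTensor K (LinearMap.mul' k G ∘ₗ LinearMap.lTensor G E)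
          (TensorProduct.assoc k K G G (LinearMap.rTensor G
            (LinearMap.rTensor G (ψ : G →ₐ[k] K).toLinearMap ∘ₗ Δ) z)) := by
      intro z
      induction z with
      | zero => simp
      | add a b ha hb => simp only [map_add, ha, hb]
      | tmul a c =>
        simp only [LinearMap.lTensor_tmul, LinearMap.mul'_apply, LinearMap.rTensor_tmul,
          LinearMap.comp_apply, Bialgebra.comul_mul, hm, map_mul]
        obtain ⟨q, hq⟩ := hpB (HopfAlgebraStruct.antipode (R := k) c)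
        have hq' : E c = φ q := hq.symm
        rw [← hm (Δ (E c)), hq', psi_phi_left φ ψ hker]
        generalize m (Δ a) = w
        induction w with
        | zero => simp
        | add u v hu hv => simp only [add_mul, add_tmul, map_add, hu, hv]
        | tmul u v => simp [hq']
    show LinearMap.rTensor G _ (Δ (LinearMap.mul' k G (LinearMap.lTensor G E (Δ y)))) = _
    rw [step, LinearMap.rTensor_comp_apply]
    have nat : ∀ w : (G ⊗[k] G) ⊗[k] G, TensorProduct.assoc k K G G
        (LinearMap.rTensor G (LinearMap.rTensor G (ψ : G →ₐ[k] K).toLinearMap) w) =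
        LinearMap.rTensor (G ⊗[k] G) (ψ : G →ₐ[k] K).toLinearMap (TensorProduct.assoc k G G G w) := by
      intro w
      induction w with
      | zero => simp
      | add a b ha hb => simp only [map_add, ha, hb]
      | tmul a b =>
        induction a with
        | zero => simp
        | add a a' ha ha' => simp only [add_tmul, map_add, ha, ha']
        | tmul a c => simp
    rw [nat, Coalgebra.coassoc_apply, ← LinearMap.comp_apply (LinearMap.rTensor _ _),
      LinearMap.rTensor_comp_lTensor, ← LinearMap.lTensor_comp_rTensor, LinearMap.comp_apply,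
      ← LinearMap.lTensor_comp_apply, LinearMap.comp_assoc]
  refine ⟨α' ∘ₗ Tf, ?_, fun d hd => ?_, fun y => ?_⟩
  · simp [α', hT1, h1]
  · rw [show d = _ from hab ⟨d, hd⟩, map_sum]
    refine Finset.sum_eq_zero fun i _ => ?_
    set a₀ := a ⟨d, hd⟩ i
    set b₀ := b ⟨d, hd⟩ i
    suffices Tf (a₀ * φ b₀) = 0 by simp [this]
    show LinearMap.mul' k G (LinearMap.lTensor G E (Δ (a₀ * φ b₀))) = 0
    rw [Bialgebra.comul_mul, hT ⟨d, hd⟩ i, Finset.sum_mul, map_sum, map_sum]
    refine Finset.sum_eq_zero fun x hx => ?_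
    rw [comul_map φ]
    have hxM : HopfAlgebraStruct.antipode (R := k) x.2 ∈ M := hMS _ (by
      simp only [Sleg, Finset.mem_biUnion, Finset.mem_image]
      exact ⟨⟨d, hd⟩, Finset.mem_univ _, i, Finset.mem_univ _, x, hx, rfl⟩)
    have key : ∀ z : Q ⊗[k] Q, LinearMap.mul' k G (LinearMap.lTensor G E
        ((x.1 ⊗ₜ[k] x.2) * TensorProduct.map (φ : Q →ₐ[k] G).toLinearMap
          (φ : Q →ₐ[k] G).toLinearMap z)) =
        x.1 * E x.2 * φ (LinearMap.mul' k Q
          (LinearMap.lTensor Q (HopfAlgebraStruct.antipode (R := k)) z)) := by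
      intro z
      induction z with
      | zero => simp
      | add u v hu hv => simp only [map_add, mul_add, hu, hv]
      | tmul u v =>
        simp only [TensorProduct.map_tmul, Algebra.TensorProduct.tmul_mul_tmul,
          LinearMap.lTensor_tmul, LinearMap.mul'_apply, AlgHom.toLinearMap_apply, map_mul]
        have hE : E (x.2 * φ v) = φ (HopfAlgebraStruct.antipode (R := k) v) * E x.2 := by
          show p (HopfAlgebraStruct.antipode (R := k) (x.2 * φ v)) = _
          rw [show HopfAlgebraStruct.antipode (R := k) (x.2 * φ v) =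
            φ (HopfAlgebraStruct.antipode (R := k) v) * HopfAlgebraStruct.antipode (R := k) x.2 from
            (map_mul (HopfAlgebra.antipodeAlgHom k G) x.2 (φ v)).trans
              ((mul_comm _ _).trans (congrArg (· * _) (map_antipode φ v).symm))]
          exact hpl ⟨_, ⟨_, rfl⟩⟩ _ hxM
        show x.1 * φ u * E (x.2 * φ v) = x.1 * E x.2 * (φ u * φ (HopfAlgebraStruct.antipode (R := k) v))
        rw [hE]
        ring
    rw [key, HopfAlgebra.mul_antipode_lTensor_comul_apply, hb ⟨d, hd⟩ i, map_zero, map_zero,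
      mul_zero]
  · rw [← slice_lTensor, ← hcomul, slice_rTensor]
    show (ψ : G →ₐ[k] K).toLinearMap (slice (α ∘ₗ HopfAlgebra.antipode k) (Δ (Tf y))) = _
    rw [slice_comul_antipode hα, map_smul, AlgHom.toLinearMap_apply, map_one]
    rfl

theorem kernel_linearlyReductive [Algebra.FiniteType k Q] (φ : Q →ₐc[k] G)
    (ψ : G →ₐc[k] K) (hψ : Function.Surjective ψ)
    (hker : RingHom.ker (ψ : G →ₐ[k] K) =
      Ideal.map (φ : Q →ₐ[k] G) (RingHom.ker (Bialgebra.counitAlgHom k Q)))
    (hG : IsLinearlyReductive k G) : IsLinearlyReductive k K := by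
  classical
  refine isLinearlyReductive_of_lift fun V W _ _ _ _ _ _ _ _ π hπ hsurj w hw => ?_
  obtain ⟨v₀, hv₀⟩ := hsurj w
  let lψ : G →ₗ[k] K := (ψ : G →ₐ[k] K).toLinearMap
  obtain ⟨σ, hσ⟩ := LinearMap.exists_rightInverse_of_surjective lψ (LinearMap.range_eq_top.2 hψ)
  have hσ' : ∀ c, ψ (σ c) = c := fun c => LinearMap.congr_fun hσ c
  obtain ⟨C, hC⟩ := TensorProduct.exists_finset (Comod.coact (k := k) (A := K) v₀)
  choose U hU using fun c : V × K => TensorProduct.exists_finset (Δ (σ c.2))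
  let D : Finset G := insert (σ 1 - 1)
    (C.biUnion fun c => (U c).image fun x => σ (ψ x.2) - x.2)
  have hD : ∀ d ∈ D, ψ d = 0 := by
    intro d hd
    simp only [D, Finset.mem_insert, Finset.mem_biUnion, Finset.mem_image] at hd
    rcases hd with rfl | ⟨c, _, x, _, rfl⟩ <;> rw [map_sub, hσ'] <;> simp
  obtain ⟨L, hL1, hLD, hLinv⟩ := exists_partial_invariant φ ψ hker hG D hD
  let L' : K →ₗ[k] k := L ∘ₗ σ
  have hL'1 : L' 1 = 1 := by
    have := hLD (σ 1 - 1) (Finset.mem_insert_self _ _)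
    rw [map_sub, hL1, sub_eq_zero] at this
    exact this
  have hinv : ∀ c ∈ C, slice L' (Δ c.2) = L' c.2 • (1 : K) := by
    intro c hc
    conv_lhs => rw [← hσ' c.2, comul_map ψ, ← LinearMap.lTensor_comp_rTensor,
      LinearMap.comp_apply, slice_lTensor]
    show _ = L (σ c.2) • (1 : K)
    rw [← hLinv (σ c.2), hU c]
    simp only [map_sum, LinearMap.rTensor_tmul, slice_tmul]
    refine Finset.sum_congr rfl fun x hx => ?_
    congr 1
    have := hLD (σ (ψ x.2) - x.2) (Finset.mem_insert_of_mem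
      (Finset.mem_biUnion.2 ⟨c, hc, Finset.mem_image.2 ⟨x, hx, rfl⟩⟩))
    rw [map_sub, sub_eq_zero] at this
    exact this
  refine ⟨slice L' (Comod.coact (k := k) (A := K) v₀), ?_, ?_⟩
  · show Comod.coact (k := k) (A := K) _ = _ ⊗ₜ[k] (1 : K)
    rw [← slice_rTensor, ← LinearEquiv.symm_apply_apply (TensorProduct.assoc k V K K)
      ((Comod.coact (k := k) (A := K)).rTensor K _), coassoc_apply, slice_assoc_symm, hC]
    simp only [map_sum, LinearMap.lTensor_tmul, slice_tmul, TensorProduct.sum_tmul]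
    refine Finset.sum_congr rfl fun c hc => ?_
    rw [hinv c hc, TensorProduct.tmul_smul, TensorProduct.smul_tmul']
  · rw [← slice_rTensor, show LinearMap.rTensor K π (Comod.coact (k := k) (A := K) v₀) =
        Comod.coact (k := k) (A := K) (π v₀) from (LinearMap.congr_fun hπ v₀).symm, hv₀,
      show Comod.coact (k := k) (A := K) w = w ⊗ₜ[k] (1 : K) from hw, slice_tmul, hL'1, one_smul]

end LinRedSeqLib

end
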