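import Mathlib
import Groth.Agent.LinRedSeqLib.Basic

/-! # Subgroups with affine quotient of linearly reductive groups -/

set_option autoImplicit false

noncomputable section

open TensorProduct HopfRep ComodLib

namespace LinRedSeqLib

universe u

variable {k : Type u} [Field k] {G K : Type u} [CommRing G] [HopfAlgebra k G] [CommRing K]
  [HopfAlgebra k K]

local notation "Δ" => CoalgebraStruct.comul (R := k)

/-- A `B`-linear retraction to `B` on a finite list of elements, `B` faithfully flat in `G`. -/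
theorem exists_retraction_of_faithfullyFlat (B : Subalgebra k G) [IsNoetherianRing ↥B]
    [Module.FaithfullyFlat ↥B G] (S : Finset G) :
    ∃ (M : Submodule ↥B G) (p : G →ₗ[k] G), (1 : G) ∈ M ∧ (∀ x ∈ S, x ∈ M) ∧ p 1 = 1 ∧
      (∀ x, p x ∈ B) ∧ ∀ (b : ↥B) (x : G), x ∈ M → p ((b : G) * x) = (b : G) * p x := by
  classical
  let M : Submodule ↥B G := Submodule.span ↥B ((insert (1 : G) S : Finset G) : Set G)
  have h1 : (1 : G) ∈ M := Submodule.subset_span (Finset.mem_insert_self _ _)
  have hS : ∀ x ∈ S, x ∈ M := fun x hx => Submodule.subset_span (Finset.mem_insert_of_mem hx)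
  haveI : Module.Finite ↥B ↥M := Module.Finite.iff_fg.2 ⟨_, rfl⟩
  haveI : Module.FinitePresentation ↥B ↥M := Module.finitePresentation_of_finite _ _
  obtain ⟨n, a, y, hay⟩ := Module.Flat.exists_factorization_of_finitePresentation (M.subtype)
  let one : ↥M := ⟨1, h1⟩
  let J : Ideal ↥B := LinearMap.range (Module.Dual.eval ↥B ↥M one)
  have hJ : J = ⊤ := by
    rw [← Ideal.comap_map_eq_self_of_faithfullyFlat (B := G) J, Ideal.comap_eq_top_iff,
      Ideal.eq_top_iff_one]
    have e : (1 : G) = y (a one) := LinearMap.congr_fun hay one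
    rw [e, ← Finsupp.univ_sum_single (a one), map_sum]
    refine Ideal.sum_mem _ fun i _ => ?_
    rw [← Finsupp.smul_single_one, map_smul, Algebra.smul_def]
    exact Ideal.mul_mem_right _ _ (Ideal.mem_map_of_mem _ ⟨Finsupp.lapply i ∘ₗ a, rfl⟩)
  obtain ⟨l, hl⟩ : (1 : ↥B) ∈ J := hJ ▸ Submodule.mem_top
  let l' : ↥(M.restrictScalars k) →ₗ[k] ↥(Subalgebra.toSubmodule B) :=
    { toFun := fun x => ⟨((l ⟨(x : G), x.2⟩ : ↥B) : G), (l ⟨(x : G), x.2⟩).2⟩
      map_add' := fun x y => Subtype.ext (congrArg Subtype.val (map_add l ⟨(x : G), x.2⟩ ⟨(y : G), y.2⟩))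
      map_smul' := fun c x => by
        refine Subtype.ext ?_
        have : (⟨((c • x : ↥(M.restrictScalars k)) : G), (c • x).2⟩ : ↥M) =
            (algebraMap k ↥B c) • (⟨(x : G), x.2⟩ : ↥M) :=
          Subtype.ext (Algebra.smul_def c (x : G))
        show ((l _ : ↥B) : G) = c • ((l _ : ↥B) : G)
        rw [this, map_smul]
        simp [Algebra.smul_def] }
  obtain ⟨e, he⟩ := LinearMap.exists_extend l'
  refine ⟨M, (Subalgebra.toSubmodule B).subtype ∘ₗ e, h1, hS, ?_, fun x => (e x).2, fun b x hx => ?_⟩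
  · show ((e 1 : ↥(Subalgebra.toSubmodule B)) : G) = 1
    rw [show e 1 = l' ⟨1, h1⟩ from LinearMap.congr_fun he ⟨1, h1⟩]
    show ((l one : ↥B) : G) = 1
    exact congrArg Subtype.val hl
  · have hbx : (b : G) * x ∈ M := M.smul_mem b hx
    show ((e _ : ↥(Subalgebra.toSubmodule B)) : G) = (b : G) * ((e x : ↥(Subalgebra.toSubmodule B)) : G)
    rw [show e ((b : G) * x) = l' ⟨(b : G) * x, hbx⟩ from LinearMap.congr_fun he ⟨_, hbx⟩,
      show e x = l' ⟨x, hx⟩ from LinearMap.congr_fun he ⟨x, hx⟩]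
    show ((l (b • ⟨x, hx⟩) : ↥B) : G) = (b : G) * ((l ⟨x, hx⟩ : ↥B) : G)
    rw [map_smul]
    rfl

/-- Right coinvariants give left coinvariants after the antipode. -/
theorem left_coinvariant_antipode (ψ : G →ₐc[k] K) {b : G}
    (hb : LinearMap.lTensor G (ψ : G →ₐ[k] K).toLinearMap (Δ b) = b ⊗ₜ[k] (1 : K)) :
    LinearMap.rTensor G (ψ : G →ₐ[k] K).toLinearMap (Δ (HopfAlgebraStruct.antipode (R := k) b)) =
      (1 : K) ⊗ₜ[k] HopfAlgebraStruct.antipode (R := k) b := by
  let S := HopfAlgebra.antipodeAlgHom k G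
  show LinearMap.rTensor G (ψ : G →ₐ[k] K).toLinearMap (Δ (S b)) = _
  rw [Groth.Agent.HopfFF.comul_antipode]
  have key : ∀ z : G ⊗[k] G, LinearMap.rTensor G (ψ : G →ₐ[k] K).toLinearMap
      (TensorProduct.comm k G G (Algebra.TensorProduct.map S S z)) =
      TensorProduct.comm k G K (TensorProduct.map S.toLinearMap
        (HopfAlgebraStruct.antipode (R := k) (A := K))
        (LinearMap.lTensor G (ψ : G →ₐ[k] K).toLinearMap z)) := by
    intro z
    induction z with
    | zero => simp
    | add a c ha hc => simp only [map_add, ha, hc]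
    | tmul a c =>
      simp only [Algebra.TensorProduct.map_tmul, TensorProduct.comm_tmul, LinearMap.lTensor_tmul,
        LinearMap.rTensor_tmul, TensorProduct.map_tmul, AlgHom.toLinearMap_apply]
      exact congrArg (· ⊗ₜ[k] S a) (Groth.Agent.HopfFF.map_antipode ψ c)
  rw [key, hb]
  simp [S]

/-- Right coinvariants are stable under left translation. -/
theorem comul_mem_of_coinvariant (ψ : G →ₐc[k] K) (B : Subalgebra k G)
    (hB : ∀ x, x ∈ B ↔ LinearMap.lTensor G (ψ : G →ₐ[k] K).toLinearMap (Δ x) = x ⊗ₜ[k] (1 : K))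
    {b : G} (hb : b ∈ B) :
    Δ b ∈ LinearMap.range ((Subalgebra.toSubmodule B).subtype.lTensor G) := by
  rw [mem_range_lTensor_iff]
  intro g
  rw [Subalgebra.mem_toSubmodule, hB, ← sliceL_lTensor g Δ, ← Coalgebra.coassoc_apply]
  have key : ∀ z : G ⊗[k] G, LinearMap.lTensor G (ψ : G →ₐ[k] K).toLinearMap
      (sliceL g (TensorProduct.assoc k G G G (LinearMap.rTensor G Δ z))) =
      LinearMap.rTensor K (sliceL g ∘ₗ Δ) (LinearMap.lTensor G (ψ : G →ₐ[k] K).toLinearMap z) := by
    intro z
    induction z with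
    | zero => simp
    | add a c ha hc => simp only [map_add, ha, hc]
    | tmul a c =>
      simp only [LinearMap.rTensor_tmul, LinearMap.lTensor_tmul, LinearMap.comp_apply]
      generalize Δ a = y
      induction y with
      | zero => simp
      | add u v hu hv => simp only [add_tmul, map_add, hu, hv]
      | tmul u v => simp [TensorProduct.smul_tmul']
  rw [key, (hB b).1 hb, LinearMap.rTensor_tmul]
  rfl

/-- An invariant functional up to a finite set of elements of the kernel of `G → K`. -/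
theorem exists_partial_invariant_subgroup (ψ : G →ₐc[k] K) (B : Subalgebra k G)
    (hB : ∀ x, x ∈ B ↔ LinearMap.lTensor G (ψ : G →ₐ[k] K).toLinearMap (Δ x) = x ⊗ₜ[k] (1 : K))
    [IsNoetherianRing ↥B] [Module.FaithfullyFlat ↥B G]
    (hker : RingHom.ker (ψ : G →ₐ[k] K) ≤
      Ideal.span {x : G | x ∈ B ∧ CoalgebraStruct.counit (R := k) x = 0})
    (hG : IsLinearlyReductive k G) (D : Finset G) (hD : ∀ d ∈ D, ψ d = 0) :
    ∃ L : G →ₗ[k] k, L 1 = 1 ∧ (∀ d ∈ D, L d = 0) ∧
      ∀ y, slice L (LinearMap.rTensor G (ψ : G →ₐ[k] K).toLinearMap (Δ y)) = L y • (1 : K) := by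
  classical
  obtain ⟨α, hα, h1⟩ := exists_invariant_of_isLinearlyReductive hG
  let α' : G →ₗ[k] k := α ∘ₗ HopfAlgebraStruct.antipode (R := k)
  have hrep : ∀ d : ↥D, ∃ (n : ℕ) (a b : Fin n → G),
      (∀ i, b i ∈ B ∧ CoalgebraStruct.counit (R := k) (b i) = 0) ∧ (d : G) = ∑ i, a i * b i := by
    intro d
    obtain ⟨n, f, g, hfg⟩ := Submodule.mem_span_set'.1 (hker (show (d : G) ∈ RingHom.ker _ from hD _ d.2))
    exact ⟨n, f, fun i => (g i : G), fun i => (g i).2, hfg.symm⟩
  choose n a b hb hab using hrep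
  choose T hT using fun (d : ↥D) (i : Fin (n d)) =>
    TensorProduct.exists_finset (Δ (a d i))
  let Sleg : Finset G := Finset.univ.biUnion fun d : ↥D => Finset.univ.biUnion fun i =>
    (T d i).image fun p => p.2
  obtain ⟨M, p, hM1, hMS, hp1, hpB, hpl⟩ := exists_retraction_of_faithfullyFlat B Sleg
  let E : G →ₗ[k] G := HopfAlgebraStruct.antipode (R := k) ∘ₗ p
  let Tf : G →ₗ[k] G := LinearMap.mul' k G ∘ₗ LinearMap.lTensor G E ∘ₗ Δ
  have hT1 : Tf 1 = 1 := by
    simp [Tf, E, Bialgebra.comul_one, Algebra.TensorProduct.one_def, hp1]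
  have hcomul : ∀ (y : G), LinearMap.rTensor G (ψ : G →ₐ[k] K).toLinearMap (Δ (Tf y)) =
      LinearMap.lTensor K Tf (LinearMap.rTensor G (ψ : G →ₐ[k] K).toLinearMap (Δ y)) := by
    intro y
    let m := Algebra.TensorProduct.map (ψ : G →ₐ[k] K) (AlgHom.id k G)
    have hm : ∀ z : G ⊗[k] G, LinearMap.rTensor G (ψ : G →ₐ[k] K).toLinearMap z = m z := by
      intro z
      induction z with
      | zero => simp
      | add a b ha hb => simp only [map_add, ha, hb]
      | tmul a b => simp [m]
    have step : ∀ z : G ⊗[k] G,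
        LinearMap.rTensor G (ψ : G →ₐ[k] K).toLinearMap
          (Δ (LinearMap.mul' k G (LinearMap.lTensor G E z))) =
        LinearMap.lTensor K (LinearMap.mul' k G ∘ₗ LinearMap.lTensor G E)
          (TensorProduct.assoc k K G G (LinearMap.rTensor G
            (LinearMap.rTensor G (ψ : G →ₐ[k] K).toLinearMap ∘ₗ Δ) z)) := by
      intro z
      induction z with
      | zero => simp
      | add a b ha hb => simp only [map_add, ha, hb]
      | tmul a c =>
        simp only [LinearMap.lTensor_tmul, LinearMap.mul'_apply, LinearMap.rTensor_tmul,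
          LinearMap.comp_apply, Bialgebra.comul_mul, hm, map_mul]
        rw [← hm (Δ (E c)), show LinearMap.rTensor G (ψ : G →ₐ[k] K).toLinearMap (Δ (E c)) =
          (1 : K) ⊗ₜ[k] E c from left_coinvariant_antipode ψ ((hB _).1 (hpB c))]
        generalize m (Δ a) = w
        induction w with
        | zero => simp
        | add u v hu hv => simp only [add_mul, add_tmul, map_add, hu, hv]
        | tmul u v => simp
    show LinearMap.rTensor G _ (Δ (LinearMap.mul' k G (LinearMap.lTensor G E (Δ y)))) = _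
    rw [step, LinearMap.rTensor_comp_apply]
    have nat : ∀ w : (G ⊗[k] G) ⊗[k] G, TensorProduct.assoc k K G G
        (LinearMap.rTensor G (LinearMap.rTensor G (ψ : G →ₐ[k] K).toLinearMap) w) =
        LinearMap.rTensor (G ⊗[k] G) (ψ : G →ₐ[k] K).toLinearMap (TensorProduct.assoc k G G G w) := by
      intro w
      induction w with
      | zero => simp
      | add a b ha hb => simp only [map_add, ha, hb]
      | tmul a b =>
        induction a with
        | zero => simp
        | add a a' ha ha' => simp only [add_tmul, map_add, ha, ha']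
        | tmul a c => simp
    rw [nat, Coalgebra.coassoc_apply, ← LinearMap.comp_apply (LinearMap.rTensor _ _),
      LinearMap.rTensor_comp_lTensor, ← LinearMap.lTensor_comp_rTensor, LinearMap.comp_apply,
      ← LinearMap.lTensor_comp_apply, LinearMap.comp_assoc]
  refine ⟨α' ∘ₗ Tf, ?_, fun d hd => ?_, fun y => ?_⟩
  · simp [α', hT1, h1]
  · rw [show d = _ from hab ⟨d, hd⟩, map_sum]
    refine Finset.sum_eq_zero fun i _ => ?_
    set a₀ := a ⟨d, hd⟩ i
    set b₀ := b ⟨d, hd⟩ i
    suffices Tf (a₀ * b₀) = 0 by simp [this]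
    show LinearMap.mul' k G (LinearMap.lTensor G E (Δ (a₀ * b₀))) = 0
    rw [Bialgebra.comul_mul, hT ⟨d, hd⟩ i, Finset.sum_mul, map_sum, map_sum]
    refine Finset.sum_eq_zero fun x hx => ?_
    have hxM : x.2 ∈ M := hMS _ (by
      simp only [Sleg, Finset.mem_biUnion, Finset.mem_image]
      exact ⟨⟨d, hd⟩, Finset.mem_univ _, i, Finset.mem_univ _, x, hx, rfl⟩)
    obtain ⟨w, hw⟩ := comul_mem_of_coinvariant ψ B hB (hb ⟨d, hd⟩ i).1
    rw [← hw]
    have key : ∀ z : G ⊗[k] ↥(Subalgebra.toSubmodule B), LinearMap.mul' k G (LinearMap.lTensor G E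
        ((x.1 ⊗ₜ[k] x.2) * (Subalgebra.toSubmodule B).subtype.lTensor G z)) =
        x.1 * E x.2 * LinearMap.mul' k G (LinearMap.lTensor G (HopfAlgebraStruct.antipode (R := k))
          ((Subalgebra.toSubmodule B).subtype.lTensor G z)) := by
      intro z
      induction z with
      | zero => simp
      | add u v hu hv => simp only [map_add, mul_add, hu, hv]
      | tmul u v =>
        simp only [Algebra.TensorProduct.tmul_mul_tmul, LinearMap.lTensor_tmul, LinearMap.mul'_apply,
          Submodule.subtype_apply]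
        have hE : E (x.2 * (v : G)) = HopfAlgebraStruct.antipode (R := k) (v : G) * E x.2 := by
          show HopfAlgebraStruct.antipode (R := k) (p (x.2 * (v : G))) =
            _ * HopfAlgebraStruct.antipode (R := k) (p x.2)
          rw [mul_comm x.2, hpl ⟨(v : G), v.2⟩ _ hxM]
          exact map_mul (HopfAlgebra.antipodeAlgHom k G) _ _
        rw [hE]
        ring
    rw [key, hw, HopfAlgebra.mul_antipode_lTensor_comul_apply, (hb ⟨d, hd⟩ i).2, map_zero, mul_zero]
  · rw [← slice_lTensor, ← hcomul, slice_rTensor]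
    show (ψ : G →ₐ[k] K).toLinearMap (slice (α ∘ₗ HopfAlgebra.antipode k) (Δ (Tf y))) = _
    rw [slice_comul_antipode hα, map_smul, AlgHom.toLinearMap_apply, map_one]
    rfl

theorem subgroup_linearlyReductive (ψ : G →ₐc[k] K) (hψ : Function.Surjective ψ) (B : Subalgebra k G)
    (hB : ∀ x, x ∈ B ↔ LinearMap.lTensor G (ψ : G →ₐ[k] K).toLinearMap (Δ x) = x ⊗ₜ[k] (1 : K))
    [IsNoetherianRing ↥B] [Module.FaithfullyFlat ↥B G]
    (hker : RingHom.ker (ψ : G →ₐ[k] K) ≤
      Ideal.span {x : G | x ∈ B ∧ CoalgebraStruct.counit (R := k) x = 0})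
    (hG : IsLinearlyReductive k G) : IsLinearlyReductive k K := by
  classical
  refine isLinearlyReductive_of_lift fun V W _ _ _ _ _ _ _ _ π hπ hsurj w hw => ?_
  obtain ⟨v₀, hv₀⟩ := hsurj w
  let lψ : G →ₗ[k] K := (ψ : G →ₐ[k] K).toLinearMap
  obtain ⟨σ, hσ⟩ := LinearMap.exists_rightInverse_of_surjective lψ (LinearMap.range_eq_top.2 hψ)
  have hσ' : ∀ c, ψ (σ c) = c := fun c => LinearMap.congr_fun hσ c
  obtain ⟨C, hC⟩ := TensorProduct.exists_finset (Comod.coact (k := k) (A := K) v₀)
  choose U hU using fun c : V × K => TensorProduct.exists_finset (Δ (σ c.2))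
  let D : Finset G := insert (σ 1 - 1)
    (C.biUnion fun c => (U c).image fun x => σ (ψ x.2) - x.2)
  have hD : ∀ d ∈ D, ψ d = 0 := by
    intro d hd
    simp only [D, Finset.mem_insert, Finset.mem_biUnion, Finset.mem_image] at hd
    rcases hd with rfl | ⟨c, _, x, _, rfl⟩ <;> rw [map_sub, hσ'] <;> simp
  obtain ⟨L, hL1, hLD, hLinv⟩ := exists_partial_invariant_subgroup ψ B hB hker hG D hD
  let L' : K →ₗ[k] k := L ∘ₗ σ
  have hL'1 : L' 1 = 1 := by
    have := hLD (σ 1 - 1) (Finset.mem_insert_self _ _)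
    rw [map_sub, hL1, sub_eq_zero] at this
    exact this
  have hinv : ∀ c ∈ C, slice L' (Δ c.2) = L' c.2 • (1 : K) := by
    intro c hc
    conv_lhs => rw [← hσ' c.2, comul_map ψ, ← LinearMap.lTensor_comp_rTensor,
      LinearMap.comp_apply, slice_lTensor]
    show _ = L (σ c.2) • (1 : K)
    rw [← hLinv (σ c.2), hU c]
    simp only [map_sum, LinearMap.rTensor_tmul, slice_tmul]
    refine Finset.sum_congr rfl fun x hx => ?_
    congr 1
    have := hLD (σ (ψ x.2) - x.2) (Finset.mem_insert_of_mem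
      (Finset.mem_biUnion.2 ⟨c, hc, Finset.mem_image.2 ⟨x, hx, rfl⟩⟩))
    rw [map_sub, sub_eq_zero] at this
    exact this
  refine ⟨slice L' (Comod.coact (k := k) (A := K) v₀), ?_, ?_⟩
  · show Comod.coact (k := k) (A := K) _ = _ ⊗ₜ[k] (1 : K)
    rw [← slice_rTensor, ← LinearEquiv.symm_apply_apply (TensorProduct.assoc k V K K)
      ((Comod.coact (k := k) (A := K)).rTensor K _), coassoc_apply, slice_assoc_symm, hC]
    simp only [map_sum, LinearMap.lTensor_tmul, slice_tmul, TensorProduct.sum_tmul]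
    refine Finset.sum_congr rfl fun c hc => ?_
    rw [hinv c hc, TensorProduct.tmul_smul, TensorProduct.smul_tmul']
  · rw [← slice_rTensor, show LinearMap.rTensor K π (Comod.coact (k := k) (A := K) v₀) =
        Comod.coact (k := k) (A := K) (π v₀) from (LinearMap.congr_fun hπ v₀).symm, hv₀,
      show Comod.coact (k := k) (A := K) w = w ⊗ₜ[k] (1 : K) from hw, slice_tmul, hL'1, one_smul]

end LinRedSeqLib

end
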